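import Mathlib
import Groth.Agent.Lib.Helper1.GrAlg

/-!
# Veronese-type statements for graded algebras of finite type (helper5)

Universe-polymorphic copies of helper1's `GrAlg.S4389`, `GrAlg.exists_le_irrelevant_pow`,
`GrAlg.core`, `GenDeg1.piece_fg` (there `R` and `A` are in the same universe), plus the statement
for all large multiples.
-/

set_option autoImplicit false
namespace Groth.Agent.Lib.Helper5.GrVer

open DirectSum Groth.Agent.Helper1.GrAlg

section Ring
variable {R : Type*} {A : Type*} [CommRing R] [CommRing A] [Algebra R A]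
  (𝒜 : ℕ → Submodule R A) [GradedAlgebra 𝒜]

theorem S4389 (E : Set A) (hE : ∀ e ∈ E, ∃ d : ℕ, 0 < d ∧ e ∈ 𝒜 d) :
    (HomogeneousIdeal.irrelevant 𝒜).toIdeal = Ideal.span E ↔ Algebra.adjoin (𝒜 0) E = ⊤ := by
  classical
  have hEirr : Ideal.span E ≤ (HomogeneousIdeal.irrelevant 𝒜).toIdeal := by
    refine Ideal.span_le.2 fun e he => ?_
    obtain ⟨d, hd, hed⟩ := hE e he
    exact HomogeneousIdeal.mem_irrelevant_of_mem 𝒜 hd hed
  choose! d hdpos hdmem using hE
  constructor
  · intro h
    have hn : ∀ n, ∀ x ∈ 𝒜 n, x ∈ Algebra.adjoin (𝒜 0) E := by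
      intro n
      induction n using Nat.strong_induction_on with
      | _ n ih =>
        intro x hx
        rcases Nat.eq_zero_or_pos n with h0 | hpos
        · subst h0
          exact Subalgebra.algebraMap_mem _ (⟨x, hx⟩ : 𝒜 0)
        · have hxI : x ∈ Ideal.span E := by
            rw [← h]
            exact HomogeneousIdeal.mem_irrelevant_of_mem 𝒜 hpos hx
          obtain ⟨t, c, y, hcy, rfl⟩ :=
            exists_sum_of_mem_span 𝒜 𝒜 E d hdmem hx hxI
          refine sum_mem fun i _ => ?_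
          obtain ⟨hyE, hc, hor⟩ := hcy i
          rw [smul_eq_mul]
          refine mul_mem ?_ (Algebra.subset_adjoin hyE)
          rcases hor with hle | h0
          · exact ih _ (by have := hdpos _ hyE; omega) _ hc
          · rw [h0]; exact zero_mem _
    rw [eq_top_iff]
    intro x _
    rw [← DirectSum.sum_support_decompose 𝒜 x]
    exact sum_mem fun i _ => hn i _ (DirectSum.decompose 𝒜 x i).2
  · intro h
    refine le_antisymm ?_ hEirr
    intro x hx
    have hP : ∀ y ∈ Algebra.adjoin (𝒜 0) E, ∃ a ∈ 𝒜 0, y - a ∈ Ideal.span E := by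
      intro y hy
      induction hy using Algebra.adjoin_induction with
      | mem y hy => exact ⟨0, zero_mem _, by simpa using Ideal.subset_span hy⟩
      | algebraMap r => exact ⟨r.1, r.2, by simp⟩
      | add y z _ _ hy hz =>
        obtain ⟨a, ha, hya⟩ := hy
        obtain ⟨b, hb, hzb⟩ := hz
        refine ⟨a + b, add_mem ha hb, ?_⟩
        have : y + z - (a + b) = (y - a) + (z - b) := by ring
        rw [this]
        exact add_mem hya hzb
      | mul y z _ _ hy hz =>
        obtain ⟨a, ha, hya⟩ := hy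
        obtain ⟨b, hb, hzb⟩ := hz
        refine ⟨a * b, by simpa using SetLike.mul_mem_graded ha hb, ?_⟩
        have : y * z - a * b = (y - a) * z + a * (z - b) := by ring
        rw [this]
        exact add_mem (Ideal.mul_mem_right _ _ hya) (Ideal.mul_mem_left _ _ hzb)
    obtain ⟨a, ha, hxa⟩ := hP x (h ▸ Algebra.mem_top)
    have haI : a ∈ (HomogeneousIdeal.irrelevant 𝒜).toIdeal := by
      have h1 := hEirr hxa
      have h2 := sub_mem hx h1
      simpa using h2
    have ha0 : a = 0 := by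
      have h1 : (DirectSum.decompose 𝒜 a 0 : A) = 0 := haI
      rwa [DirectSum.decompose_of_mem_same 𝒜 ha] at h1
    simpa [ha0] using hxa

variable [Algebra.FiniteType (𝒜 0) A]

theorem exists_le_irrelevant_pow (n : ℕ) :
    ∃ m₀ : ℕ, ∀ m : ℕ, m₀ ≤ m → ∀ x ∈ 𝒜 m,
      x ∈ ((HomogeneousIdeal.irrelevant 𝒜).toIdeal ^ n : Ideal A) := by
  classical
  obtain ⟨s, hs, hs'⟩ := GradedAlgebra.exists_finset_adjoin_eq_top_and_homogeneous_ne_zero 𝒜
  have hE : ∀ e ∈ (s : Set A), ∃ d : ℕ, 0 < d ∧ e ∈ 𝒜 d := fun e he => by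
    obtain ⟨n, hn, hen⟩ := hs' e he
    exact ⟨n, Nat.pos_of_ne_zero hn, hen⟩
  have hirr := (S4389 𝒜 _ hE).2 hs
  choose! d hdpos hdmem using hE
  set D := s.sup d + 1 with hD
  have key : ∀ n m : ℕ, n * D ≤ m → ∀ x ∈ 𝒜 m,
      x ∈ ((HomogeneousIdeal.irrelevant 𝒜).toIdeal ^ n : Ideal A) := by
    intro n
    induction n with
    | zero => intro m _ x _; simp
    | succ n ih =>
      intro m hm x hx
      have hmD : n * D + D ≤ m := by rwa [Nat.succ_mul] at hm
      have hmpos : 0 < m := by omega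
      have hxI : x ∈ Ideal.span (s : Set A) := by
        rw [← hirr]
        exact HomogeneousIdeal.mem_irrelevant_of_mem 𝒜 hmpos hx
      obtain ⟨t, c, y, hcy, rfl⟩ := exists_sum_of_mem_span 𝒜 𝒜 (s : Set A) d hdmem hx hxI
      refine sum_mem fun i _ => ?_
      obtain ⟨hyE, hc, hor⟩ := hcy i
      rw [smul_eq_mul, pow_succ]
      refine Ideal.mul_mem_mul ?_ (hirr ▸ Ideal.subset_span hyE)
      rcases hor with hle | h0
      · have hdle : d (y i) ≤ s.sup d := Finset.le_sup (f := d) hyE
        exact ih _ (by omega) _ hc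
      · rw [h0]; exact zero_mem _
  exact ⟨n * D, fun m hm x hx => key n m hm x hx⟩

theorem core : ∃ q k₀ : ℕ, 0 < q ∧ ∀ k, k₀ ≤ k → 𝒜 (k + q) ≤ 𝒜 q * 𝒜 k := by
  classical
  obtain ⟨s, hs, hs'⟩ := GradedAlgebra.exists_finset_adjoin_eq_top_and_homogeneous_ne_zero 𝒜
  have hE : ∀ e ∈ (s : Set A), ∃ d : ℕ, 0 < d ∧ e ∈ 𝒜 d := fun e he => by
    obtain ⟨n, hn, hen⟩ := hs' e he
    exact ⟨n, Nat.pos_of_ne_zero hn, hen⟩
  have hirr := (S4389 𝒜 _ hE).2 hs
  choose! d hdpos hdmem using hE
  set q := ∏ e ∈ s, d e with hq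
  have hqpos : 0 < q := Finset.prod_pos fun e he => hdpos e he
  let g : A → A := fun e => e ^ (q / d e)
  have hg : ∀ e ∈ s, g e ∈ 𝒜 q := by
    intro e he
    have h1 := SetLike.pow_mem_graded (A := 𝒜) (q / d e) (hdmem e he)
    rwa [smul_eq_mul, Nat.div_mul_cancel (Finset.dvd_prod_of_mem d he)] at h1
  set J : Ideal A := Ideal.span (g '' (s : Set A)) with hJ
  have hrad : (HomogeneousIdeal.irrelevant 𝒜).toIdeal ≤ J.radical := by
    rw [hirr]
    refine Ideal.span_le.2 fun e he => ?_
    exact ⟨q / d e, Ideal.subset_span ⟨e, he, rfl⟩⟩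
  have hfg : (HomogeneousIdeal.irrelevant 𝒜).toIdeal.FG := ⟨s, hirr.symm⟩
  obtain ⟨N, hN⟩ := Ideal.exists_pow_le_of_le_radical_of_fg hrad hfg
  obtain ⟨m₀, hm₀⟩ := exists_le_irrelevant_pow 𝒜 N
  refine ⟨q, m₀, hqpos, fun k hk x hx => ?_⟩
  have hxJ : x ∈ J := hN (hm₀ (k + q) (by omega) x hx)
  have hX : ∀ y ∈ g '' (s : Set A), y ∈ 𝒜 ((fun _ : A => q) y) := by
    rintro _ ⟨e, he, rfl⟩
    exact hg e he
  obtain ⟨t, c, y, hcy, rfl⟩ :=
    exists_sum_of_mem_span 𝒜 𝒜 (g '' (s : Set A)) (fun _ => q) hX hx hxJ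
  refine sum_mem fun i _ => ?_
  obtain ⟨hyE, hc, -⟩ := hcy i
  rw [smul_eq_mul, mul_comm (c i) (y i)]
  rw [Nat.add_sub_cancel] at hc
  exact Submodule.mul_mem_mul (hX _ hyE) hc

/-- graded pieces of a graded algebra of finite type over degree zero are finitely generated
over the degree-zero part. -/
theorem piece_fg (n : ℕ) :
    ∃ Y : Finset A, (∀ y ∈ Y, y ∈ 𝒜 n) ∧ ∀ x ∈ 𝒜 n, x ∈ Submodule.span (𝒜 0) (Y : Set A) := by
  classical
  obtain ⟨s, hs, hs'⟩ := GradedAlgebra.exists_finset_adjoin_eq_top_and_homogeneous_ne_zero 𝒜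
  have hE : ∀ e ∈ (s : Set A), ∃ d : ℕ, 0 < d ∧ e ∈ 𝒜 d := fun e he => by
    obtain ⟨n, hn, hen⟩ := hs' e he
    exact ⟨n, Nat.pos_of_ne_zero hn, hen⟩
  have hirr := (S4389 𝒜 _ hE).2 hs
  choose! d hdpos hdmem using hE
  induction n using Nat.strong_induction_on with
  | _ n ih =>
    rcases Nat.eq_zero_or_pos n with h0 | hpos
    · subst h0
      refine ⟨{1}, ?_, ?_⟩
      · intro y hy
        rw [Finset.mem_singleton] at hy
        rw [hy]; exact SetLike.GradedOne.one_mem
      · intro x hx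
        have : x = (⟨x, hx⟩ : 𝒜 0) • (1 : A) := by
          show x = x * 1
          rw [mul_one]
        rw [this]
        exact Submodule.smul_mem _ _ (Submodule.subset_span (by simp))
    · choose Y hY1 hY2 using ih
      let Y' : ℕ → Finset A := fun m => if h : m < n then Y m h else ∅
      refine ⟨s.biUnion fun y => if d y ≤ n then (Y' (n - d y)).image (fun z => z * y) else ∅,
        ?_, ?_⟩
      · intro z hz
        rw [Finset.mem_biUnion] at hz
        obtain ⟨y, hy, hz⟩ := hz
        split_ifs at hz with hle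
        · rw [Finset.mem_image] at hz
          obtain ⟨w, hw, rfl⟩ := hz
          have hlt : n - d y < n := by have := hdpos y hy; omega
          simp only [Y', dif_pos hlt] at hw
          have := SetLike.mul_mem_graded (hY1 _ hlt w hw) (hdmem y hy)
          rwa [Nat.sub_add_cancel hle] at this
        · simp at hz
      · intro x hx
        have hxI : x ∈ Ideal.span (s : Set A) := by
          rw [← hirr]
          exact HomogeneousIdeal.mem_irrelevant_of_mem 𝒜 hpos hx
        obtain ⟨t, c, y, hcy, rfl⟩ := exists_sum_of_mem_span 𝒜 𝒜 (s : Set A) d hdmem hx hxI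
        refine sum_mem fun i _ => ?_
        obtain ⟨hyE, hc, hor⟩ := hcy i
        rcases hor with hle | h0
        · have hlt : n - d (y i) < n := by have := hdpos _ hyE; omega
          have hcs := hY2 _ hlt _ hc
          rw [smul_eq_mul]
          refine Submodule.span_induction
            (p := fun c _ => c * y i ∈ Submodule.span (𝒜 0) _) ?_ ?_ ?_ ?_ hcs
          · intro w hw
            refine Submodule.subset_span ?_
            rw [Finset.mem_coe, Finset.mem_biUnion]
            refine ⟨y i, hyE, ?_⟩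
            rw [if_pos hle, Finset.mem_image]
            refine ⟨w, ?_, rfl⟩
            simp only [Y', dif_pos hlt]
            exact hw
          · rw [zero_mul]; exact zero_mem _
          · intro u v _ _ hu hv
            rw [add_mul]; exact add_mem hu hv
          · intro a u _ hu
            rw [smul_mul_assoc]
            exact Submodule.smul_mem _ _ hu
        · rw [h0, zero_smul]; exact zero_mem _

theorem pow_le_graded (t i : ℕ) : (𝒜 i : Submodule R A) ^ t ≤ 𝒜 (t * i) := by
  induction t with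
  | zero =>
    rw [pow_zero, Nat.zero_mul, Submodule.one_le]
    exact SetLike.GradedOne.one_mem
  | succ t ih =>
    rw [pow_succ, Nat.succ_mul]
    refine (mul_le_mul' ih le_rfl).trans ?_
    exact Submodule.mul_le.2 fun a ha b hb => SetLike.mul_mem_graded ha hb

/-- there is `d₀ > 0` such that for every positive multiple `d` of `d₀` the Veronese subring
`⊕ 𝒜 (m d)` is generated by `𝒜 d`. -/
theorem exists_veronese :
    ∃ d₀ : ℕ, 0 < d₀ ∧ ∀ k : ℕ, 0 < k → ∀ m : ℕ, 0 < m →
      𝒜 (m * (k * d₀)) = (𝒜 (k * d₀) : Submodule R A) ^ m := by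
  obtain ⟨q, k₀, hq, hcore⟩ := core 𝒜
  have iter : ∀ t k : ℕ, k₀ ≤ k → 𝒜 (k + t * q) ≤ (𝒜 q : Submodule R A) ^ t * 𝒜 k := by
    intro t
    induction t with
    | zero => intro k _; simp
    | succ t ih =>
      intro k hk
      have h1 : k + (t + 1) * q = (k + t * q) + q := by ring
      rw [h1, pow_succ', mul_assoc]
      exact (hcore (k + t * q) (by omega)).trans (mul_le_mul' le_rfl (ih k hk))
  refine ⟨(k₀ + 1) * q, Nat.mul_pos (Nat.succ_pos _) hq, fun k hk m hm =>
    le_antisymm ?_ (pow_le_graded 𝒜 m _)⟩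
  set c := k * (k₀ + 1) with hc
  have hd : k * ((k₀ + 1) * q) = c * q := by rw [hc]; ring
  rw [hd]
  have hcq : k₀ ≤ c * q := by
    have h1 : 1 * (k₀ + 1) * 1 ≤ k * (k₀ + 1) * q :=
      Nat.mul_le_mul (Nat.mul_le_mul hk le_rfl) hq
    rw [hc]
    omega
  induction m, hm using Nat.le_induction with
  | base => simp
  | succ m hm ih =>
    have hk' : k₀ ≤ m * (c * q) := by
      have h1 : 1 * (c * q) ≤ m * (c * q) := Nat.mul_le_mul hm le_rfl
      omega
    have h1 : (m + 1) * (c * q) = m * (c * q) + c * q := by ring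
    rw [h1, pow_succ']
    refine (iter c _ hk').trans ?_
    exact mul_le_mul' (pow_le_graded 𝒜 _ _) ih

end Ring

end Groth.Agent.Lib.Helper5.GrVer
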