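import Groth.Agent.Lib.Helper5.GrVer.Core

set_option autoImplicit false
namespace Groth.Agent.Lib.Helper5.GrVer

open DirectSum

section Int
variable {A : Type*} [CommRing A] (𝒜 : ℕ → AddSubgroup A) [GradedRing 𝒜]

/-- the pieces as `ℤ`-submodules. -/
abbrev pieceZ (n : ℕ) : Submodule ℤ A := AddSubgroup.toIntSubmodule (𝒜 n)

/-- the identity on pieces. -/
def toZ (i : ℕ) : 𝒜 i →+ pieceZ 𝒜 i :=
  AddMonoidHom.mk' (fun x => (⟨x.1, x.2⟩ : pieceZ 𝒜 i)) (fun _ _ => rfl)

theorem coe_map_toZ (x : ⨁ i, 𝒜 i) :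
    DirectSum.coeAddMonoidHom (pieceZ 𝒜) (DirectSum.map (toZ 𝒜) x)
      = DirectSum.coeAddMonoidHom 𝒜 x := by
  induction x using DirectSum.induction_on with
  | zero => simp
  | of i y =>
    rw [DirectSum.map_of, DirectSum.coeAddMonoidHom_of, DirectSum.coeAddMonoidHom_of]
    rfl
  | add x y hx hy => rw [map_add, map_add, map_add, hx, hy]

noncomputable instance : GradedAlgebra (pieceZ 𝒜) where
  one_mem := SetLike.GradedOne.one_mem (A := 𝒜)
  mul_mem := fun _ _ _ _ ha hb => SetLike.GradedMul.mul_mem (A := 𝒜) ha hb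
  decompose' := fun a => DirectSum.map (toZ 𝒜) (DirectSum.decompose 𝒜 a)
  left_inv := fun a => by
    change DirectSum.coeAddMonoidHom (pieceZ 𝒜) (DirectSum.map (toZ 𝒜) (DirectSum.decompose 𝒜 a)) = a
    rw [coe_map_toZ]
    exact DirectSum.Decomposition.left_inv a
  right_inv := fun x => by
    induction x using DirectSum.induction_on with
    | zero => simp
    | of i y =>
      change DirectSum.map (toZ 𝒜) (DirectSum.decompose 𝒜
        (DirectSum.coeAddMonoidHom (pieceZ 𝒜) (DirectSum.of _ i y))) = _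
      rw [DirectSum.coeAddMonoidHom_of]
      have : DirectSum.decompose 𝒜 (y : A) = DirectSum.of (fun i => 𝒜 i) i ⟨y.1, y.2⟩ :=
        DirectSum.decompose_of_mem 𝒜 y.2
      rw [this, DirectSum.map_of]
      rfl
    | add x y hx hy =>
      change DirectSum.map (toZ 𝒜) (DirectSum.decompose 𝒜
        (DirectSum.coeAddMonoidHom (pieceZ 𝒜) (x + y))) = _
      rw [map_add, DirectSum.decompose_add, map_add]
      exact congrArg₂ (· + ·) hx hy

end Int

end Groth.Agent.Lib.Helper5.GrVer
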