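import Groth.Agent.Lib.Helper5.GrVer.Int

set_option autoImplicit false
namespace Groth.Agent.Lib.Helper5.GrVer

open DirectSum

section Main
variable {R : Type*} {A : Type*} [CommRing R] [CommRing A] (𝒜 : ℕ → AddSubgroup A) [GradedRing 𝒜]

theorem finiteType_zero (φ : R →+* A) (hφ0 : ∀ r, φ r ∈ 𝒜 0) (hft : φ.FiniteType) :
    Algebra.FiniteType (pieceZ 𝒜 0) A := by
  let φ₀ : R →+* (pieceZ 𝒜 0) :=
    { toFun := fun r => ⟨φ r, hφ0 r⟩
      map_one' := Subtype.ext (map_one φ)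
      map_mul' := fun a b => Subtype.ext (map_mul φ a b)
      map_zero' := Subtype.ext (map_zero φ)
      map_add' := fun a b => Subtype.ext (map_add φ a b) }
  have h : φ = (algebraMap (pieceZ 𝒜 0) A).comp φ₀ := by
    ext r
    rfl
  rw [h] at hft
  exact RingHom.finiteType_algebraMap.1 (RingHom.FiniteType.of_comp_finiteType hft)

theorem piece_eq_mul_span [Algebra.FiniteType (pieceZ 𝒜 0) A] (n : ℕ) :
    ∃ T : Finset A, (↑T : Set A) ⊆ (𝒜 n : Set A) ∧
      pieceZ 𝒜 n = pieceZ 𝒜 0 * Submodule.span ℤ (↑T : Set A) := by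
  obtain ⟨Y, hY1, hY2⟩ := piece_fg (pieceZ 𝒜) n
  refine ⟨Y, fun y hy => hY1 y hy, le_antisymm ?_ ?_⟩
  · intro x hx
    have hx' := hY2 x hx
    refine Submodule.span_induction
      (p := fun x _ => x ∈ pieceZ 𝒜 0 * Submodule.span ℤ (↑Y : Set A)) ?_ ?_ ?_ ?_ hx'
    · intro y hy
      have : y = 1 * y := (one_mul y).symm
      rw [this]
      exact Submodule.mul_mem_mul (SetLike.GradedOne.one_mem (A := 𝒜)) (Submodule.subset_span hy)
    · exact zero_mem _
    · intro u v _ _ hu hv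
      exact add_mem hu hv
    · intro a u _ hu
      change (a : A) * u ∈ _
      refine Submodule.mul_induction_on hu ?_ ?_
      · intro b hb c hc
        rw [← mul_assoc]
        refine Submodule.mul_mem_mul ?_ hc
        have h1 : (a : A) * b ∈ 𝒜 (0 + 0) := SetLike.GradedMul.mul_mem (A := 𝒜) a.2 hb
        rw [zero_add] at h1
        exact h1
      · intro b c hb hc
        rw [mul_add]
        exact add_mem hb hc
  · rw [Submodule.mul_le]
    intro a ha b hb
    refine Submodule.span_induction (p := fun b _ => a * b ∈ pieceZ 𝒜 n) ?_ ?_ ?_ ?_ hb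
    · intro y hy
      have h1 : a * y ∈ 𝒜 (0 + n) := SetLike.GradedMul.mul_mem (A := 𝒜) ha (hY1 y hy)
      rw [zero_add] at h1
      exact h1
    · rw [mul_zero]; exact zero_mem _
    · intro u v _ _ hu hv
      rw [mul_add]; exact add_mem hu hv
    · intro c u _ hu
      rw [mul_smul_comm]
      exact Submodule.smul_mem _ _ hu

/-- the algebraic core of EGA II 2.1.6 for a graded ring of finite type over a ring mapping to
degree zero. -/
theorem exists_veronese_int (φ : R →+* A) (hφ0 : ∀ r, φ r ∈ 𝒜 0) (hft : φ.FiniteType) :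
    ∃ d₀ : ℕ, 0 < d₀ ∧ ∀ k : ℕ, 0 < k →
      (∀ n : ℕ, 0 < n → pieceZ 𝒜 (n * (k * d₀)) = pieceZ 𝒜 (k * d₀) ^ n) ∧
      ∃ T : Finset A, (↑T : Set A) ⊆ (𝒜 (k * d₀) : Set A) ∧
        pieceZ 𝒜 (k * d₀) = pieceZ 𝒜 0 * Submodule.span ℤ (↑T : Set A) := by
  haveI := finiteType_zero 𝒜 φ hφ0 hft
  obtain ⟨d₀, hd₀, h⟩ := exists_veronese (pieceZ 𝒜)
  exact ⟨d₀, hd₀, fun k hk => ⟨fun n hn => h k hk n hn, piece_eq_mul_span 𝒜 _⟩⟩

end Main

end Groth.Agent.Lib.Helper5.GrVer
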